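import Mathlib
import Cfsg.Prelude.Def_PLocal
import Cfsg.Prelude.Def_Transfer
import Cfsg.Agent.Lead.ZJ
import Cfsg.Agent.Lead.ZJ2

/-!
Helper lemmas (helper5): the subgroups `J(X)` (join of a family of "good" subgroups of largest
order) and `Z(J(X))`, for the abstract classes of `Cfsg.Agent.Lead.ZJ.Good`.
-/

set_option autoImplicit false

namespace Cfsg.Agent.Helper5.ZJE

open Cfsg.Agent.Lead.Alp Cfsg.Agent.Lead.GR Cfsg.Agent.Lead.ZJ

variable {G : Type*} [Group G]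

/-- `J(X)`: the join of the family. -/
def jOf (𝔤 : Good G) (X : Subgroup G) : Subgroup G := sSup (𝔤.fam X)

/-- `Z(J(X))`. -/
def zOf (𝔤 : Good G) (X : Subgroup G) : Subgroup G :=
  jOf 𝔤 X ⊓ Subgroup.centralizer (jOf 𝔤 X : Set G)

variable {𝔤 : Good G}

theorem le_jOf {X A : Subgroup G} (hA : A ∈ 𝔤.fam X) : A ≤ jOf 𝔤 X := le_sSup hA

theorem jOf_le (X : Subgroup G) : jOf 𝔤 X ≤ X := sSup_le (fun _ hA => hA.1)

theorem zOf_le (X : Subgroup G) : zOf 𝔤 X ≤ X := inf_le_left.trans (jOf_le X)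

theorem comm_of_mem_zOf {X : Subgroup G} {z : G} (hz : z ∈ zOf 𝔤 X) {A : Subgroup G}
    (hA : A ∈ 𝔤.fam X) {a : G} (ha : a ∈ A) : a * z = z * a :=
  Subgroup.mem_centralizer_iff.mp (Subgroup.mem_inf.mp hz).2 a (le_jOf hA ha)

theorem zOf_comm (X : Subgroup G) : ∀ x ∈ zOf 𝔤 X, ∀ y ∈ zOf 𝔤 X, x * y = y * x := by
  intro x hx y hy
  exact (Subgroup.mem_centralizer_iff.mp (Subgroup.mem_inf.mp hx).2 y (Subgroup.mem_inf.mp hy).1).symm

/-- An element centralizing every member of the family centralizes `J`. -/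
theorem mem_centralizer_jOf {X : Subgroup G} {z : G}
    (h : ∀ A ∈ 𝔤.fam X, ∀ a ∈ A, a * z = z * a) :
    z ∈ Subgroup.centralizer (jOf 𝔤 X : Set G) := by
  have h1 : jOf 𝔤 X ≤ Subgroup.centralizer ({z} : Set G) := by
    apply sSup_le
    intro A hA a ha
    rw [Subgroup.mem_centralizer_iff]
    intro w hw
    rw [Set.mem_singleton_iff] at hw
    subst hw
    exact (h A hA a ha).symm
  rw [Subgroup.mem_centralizer_iff]
  intro a ha
  have := Subgroup.mem_centralizer_iff.mp (h1 ha) z (Set.mem_singleton z)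
  exact this.symm

theorem jOf_map (φ : G ≃* G) (X : Subgroup G) :
    jOf 𝔤 (X.map φ.toMonoidHom) = (jOf 𝔤 X).map φ.toMonoidHom := by
  apply le_antisymm
  · apply sSup_le
    intro A' hA'
    have h1 := Good.map_mem_fam (𝔤 := 𝔤) φ.symm hA'
    rw [map_symm_map] at h1
    have h2 : A' = (A'.map φ.symm.toMonoidHom).map φ.toMonoidHom := (map_map_symm φ A').symm
    rw [h2]
    exact Subgroup.map_mono (le_jOf h1)
  · rw [Subgroup.map_le_iff_le_comap]
    apply sSup_le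
    intro A hA
    rw [← Subgroup.map_le_iff_le_comap]
    exact le_jOf (Good.map_mem_fam (𝔤 := 𝔤) φ hA)

theorem zOf_map (φ : G ≃* G) (X : Subgroup G) :
    zOf 𝔤 (X.map φ.toMonoidHom) = (zOf 𝔤 X).map φ.toMonoidHom := by
  unfold zOf
  rw [jOf_map]
  ext x
  constructor
  · rintro hx
    obtain ⟨⟨y, hy, rfl⟩, hxc⟩ := Subgroup.mem_inf.mp hx
    refine ⟨y, Subgroup.mem_inf.mpr ⟨hy, ?_⟩, rfl⟩
    rw [Subgroup.mem_centralizer_iff]
    intro w hw
    have := Subgroup.mem_centralizer_iff.mp hxc (φ w) ⟨w, hw, rfl⟩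
    apply φ.injective
    simpa using this
  · rintro ⟨y, hy, rfl⟩
    obtain ⟨hyJ, hyc⟩ := Subgroup.mem_inf.mp hy
    refine Subgroup.mem_inf.mpr ⟨⟨y, hyJ, rfl⟩, ?_⟩
    rw [Subgroup.mem_centralizer_iff]
    rintro _ ⟨w, hw, rfl⟩
    have := Subgroup.mem_centralizer_iff.mp hyc w hw
    show φ w * φ y = φ y * φ w
    rw [← map_mul, ← map_mul, this]

theorem cj_zOf (g : G) (X : Subgroup G) : zOf 𝔤 (cj g X) = cj g (zOf 𝔤 X) :=
  zOf_map (MulAut.conj g⁻¹) X

theorem cj_jOf (g : G) (X : Subgroup G) : jOf 𝔤 (cj g X) = cj g (jOf 𝔤 X) :=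
  jOf_map (MulAut.conj g⁻¹) X

theorem normalizer_le_normalizer_zOf [Finite G] (X : Subgroup G) :
    Subgroup.normalizer (X : Set G) ≤ Subgroup.normalizer ((zOf 𝔤 X : Subgroup G) : Set G) := by
  intro g hg
  apply mem_normalizer_of_cj_eq_self
  rw [← cj_zOf, cj_eq_self_of_mem_normalizer hg]

theorem normalizer_le_normalizer_jOf [Finite G] (X : Subgroup G) :
    Subgroup.normalizer (X : Set G) ≤ Subgroup.normalizer ((jOf 𝔤 X : Subgroup G) : Set G) := by
  intro g hg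
  apply mem_normalizer_of_cj_eq_self
  rw [← cj_jOf, cj_eq_self_of_mem_normalizer hg]

/-- The normalizer of a subgroup normalizes its centralizer. -/
theorem normalizer_le_normalizer_centralizer (J : Subgroup G) :
    Subgroup.normalizer (J : Set G) ≤
      Subgroup.normalizer ((Subgroup.centralizer (J : Set G) : Subgroup G) : Set G) := by
  have key : ∀ g ∈ Subgroup.normalizer (J : Set G), ∀ c ∈ Subgroup.centralizer (J : Set G),
      g * c * g⁻¹ ∈ Subgroup.centralizer (J : Set G) := by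
    intro g hg c hc
    rw [Subgroup.mem_centralizer_iff]
    intro w hw
    have hw' : g⁻¹ * w * g⁻¹⁻¹ ∈ J :=
      (Subgroup.mem_normalizer_iff.mp (Subgroup.inv_mem _ hg) w).mp hw
    have h1 := Subgroup.mem_centralizer_iff.mp hc _ hw'
    have e1 : w * (g * c * g⁻¹) = g * ((g⁻¹ * w * g⁻¹⁻¹) * c) * g⁻¹ := by group
    have e2 : g * c * g⁻¹ * w = g * (c * (g⁻¹ * w * g⁻¹⁻¹)) * g⁻¹ := by group
    rw [e1, e2, h1]
  intro g hg
  rw [Subgroup.mem_normalizer_iff]
  intro c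
  constructor
  · exact key g hg c
  · intro hc
    have h1 := key g⁻¹ (Subgroup.inv_mem _ hg) _ hc
    have e : g⁻¹ * (g * c * g⁻¹) * g⁻¹⁻¹ = c := by group
    rwa [e] at h1

/-- If the family of `X₁ ≤ X` is the family of `X`, the `Z(J)`'s agree. -/
theorem zOf_eq_of_fam_eq {X X₁ : Subgroup G} (h : 𝔤.fam X₁ = 𝔤.fam X) : zOf 𝔤 X₁ = zOf 𝔤 X := by
  unfold zOf jOf
  rw [h]

end Cfsg.Agent.Helper5.ZJE
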