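import Mathlib
import Cfsg.Agent.Helper5.ZJE.Basic
import Cfsg.Agent.Helper1.ThompsonSub

/-!
Helper lemmas (helper5): the elementary abelian class; `J_e` and `Z(J_e)` in the abstract
framework agree with `Cfsg.thompsonSubgroupOf` and `Cfsg.centerThompsonOf`.
-/

set_option autoImplicit false

namespace Cfsg.Agent.Helper5.ZJE

open Cfsg.Agent.Lead.Alp Cfsg.Agent.Lead.GR Cfsg.Agent.Lead.ZJ

variable {G : Type*} [Group G]

theorem good_iff_isEA (p : ℕ) (hodd : Odd p) (A : Subgroup G) :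
    (goodEA p hodd G).good A ↔ Cfsg.IsElementaryAbelian p A := by
  constructor
  · rintro ⟨h1, h2⟩
    exact ⟨⟨⟨fun x y => Subtype.ext (h1 x x.2 y y.2)⟩⟩, h2⟩
  · intro h
    exact ⟨fun x hx y hy => Helper1.isElementaryAbelian_commute h hx hy, h.2⟩

/-- An element of order dividing `p` centralizing a maximal elementary abelian subgroup lies
in it. -/
theorem mem_of_centralizes [Finite G] {p : ℕ} (hodd : Odd p) {X A : Subgroup G}
    (hA : A ∈ (goodEA p hodd G).fam X) {t : G} (htX : t ∈ X) (htp : t ^ p = 1)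
    (hc : ∀ a ∈ A, a * t = t * a) : t ∈ A := by
  have hA' : Cfsg.IsElementaryAbelian p (A ⊔ Subgroup.zpowers t) :=
    Helper1.IsElementaryAbelian_sup ((good_iff_isEA p hodd A).mp hA.2.1)
      (Helper1.isElementaryAbelian_zpowers htp)
      (Subgroup.zpowers_le.mpr (Subgroup.mem_centralizer_iff.mpr hc))
  have h1 := hA.2.2 (A ⊔ Subgroup.zpowers t) (sup_le hA.1 (Subgroup.zpowers_le.mpr htX))
    ((good_iff_isEA p hodd _).mpr hA')
  have h2 : A = A ⊔ Subgroup.zpowers t := Subgroup.eq_of_le_of_card_ge le_sup_left h1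
  rw [h2]
  exact (le_sup_right : Subgroup.zpowers t ≤ A ⊔ Subgroup.zpowers t) (Subgroup.mem_zpowers t)

theorem fam_goodEA_eq_image [Finite G] (p : ℕ) (hp : Odd p) (P : Subgroup G) :
    (goodEA p hp G).fam P = Set.image (fun A₀ : Subgroup ↥P => A₀.map P.subtype)
      (Cfsg.maxElementaryAbelianSubgroups p ↥P) := by
  refine fam_eq_image (goodEA p hp G) P (fun A₀ => Cfsg.IsElementaryAbelian p A₀) ?_
  intro A₀
  constructor
  · rintro ⟨h1, h2⟩
    refine ⟨(isMulCommutative_iff_map P A₀).mp h1, ?_⟩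
    rintro _ ⟨a, ha, rfl⟩
    have := congrArg Subtype.val (h2 a ha)
    simpa using this
  · rintro ⟨h1, h2⟩
    refine ⟨(isMulCommutative_iff_map P A₀).mpr h1, ?_⟩
    intro a ha
    apply Subtype.ext
    have := h2 _ ⟨a, ha, rfl⟩
    simpa using this

theorem jOf_goodEA [Finite G] (p : ℕ) (hp : Odd p) (P : Subgroup G) :
    jOf (goodEA p hp G) P = Cfsg.thompsonSubgroupOf p P := by
  unfold jOf Cfsg.thompsonSubgroupOf Cfsg.thompsonSubgroup
  rw [fam_goodEA_eq_image]
  apply le_antisymm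
  · apply sSup_le
    rintro _ ⟨A₀, hA₀, rfl⟩
    exact Subgroup.map_mono (le_sSup hA₀)
  · rw [Subgroup.map_le_iff_le_comap]
    apply sSup_le
    intro A₀ hA₀
    rw [← Subgroup.map_le_iff_le_comap]
    exact le_sSup ⟨A₀, hA₀, rfl⟩

theorem zOf_goodEA [Finite G] (p : ℕ) (hp : Odd p) (P : Subgroup G) :
    zOf (goodEA p hp G) P = Cfsg.centerThompsonOf p P := by
  unfold zOf Cfsg.centerThompsonOf
  rw [jOf_goodEA]

end Cfsg.Agent.Helper5.ZJE
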