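import Mathlib
import Cfsg.Agent.Helper5.ZJE.Basic

/-!
Helper lemmas (helper5): the subgroup `stab p B` (preimage of `O_p(G / C_G(B))`) for a normal
`p`-subgroup `B` of class at most two with `[B, B]` of exponent `p`: a `p'`-element
centralizing `Ω₁(B)` centralizes `B`.
-/

set_option autoImplicit false

namespace Cfsg.Agent.Helper5.ZJE

open Cfsg.Agent.Lead.Alp Cfsg.Agent.Lead.GR Cfsg.Agent.Lead.ZJ

variable {G : Type*} [Group G]

section frattini

variable [Finite G] {p : ℕ} [Fact p.Prime]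

/-- Frattini: if `N_G(P ∩ L)` (`L = stab p B`) normalizes `X`, then `X ∩ B` is normal. -/
theorem inf_normal_of_normalizer_le (P : Sylow p G) (B : Subgroup G) [hBn : B.Normal]
    (X : Subgroup G)
    (hNX : Subgroup.normalizer (((P : Subgroup G) ⊓ stab p B : Subgroup G) : Set G) ≤
      Subgroup.normalizer (X : Set G)) : (X ⊓ B).Normal := by
  have hP₁X : (P : Subgroup G) ⊓ stab p B ≤ Subgroup.normalizer (X : Set G) :=
    Subgroup.le_normalizer.trans hNX
  refine ⟨fun x hx g => ?_⟩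
  obtain ⟨n, hn, l, hl, rfl⟩ := Cfsg.Agent.Lead.Fusion.frattini_decomp p P (stab p B) g
  have hl' := stab_le_sup B P hl
  rw [Subgroup.mem_sup_of_normal_left] at hl'
  obtain ⟨c, hc, y, hy, rfl⟩ := hl'
  have h3 := conj_mem_inf_of_mem_normalizer (B := B) (hP₁X hy) hx
  have h4 : c * (y * x * y⁻¹) * c⁻¹ = y * x * y⁻¹ := by
    have := (Subgroup.mem_centralizer_iff.mp hc) _ (Subgroup.mem_inf.mp h3).2
    rw [← this]; group
  have h5 := conj_mem_inf_of_mem_normalizer (B := B) (hNX hn) h3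
  have e : n * (c * y) * x * (n * (c * y))⁻¹ = n * (c * (y * x * y⁻¹) * c⁻¹) * n⁻¹ := by
    group
  rw [e, h4]
  exact h5

omit [Finite G] [Fact p.Prime] in
/-- A normal subgroup all of whose elements have a `p`-power power centralizing `B` lies in
`stab p B`. -/
theorem le_stab_of_pow (B : Subgroup G) [B.Normal] (K : Subgroup G) [hK : K.Normal]
    (h : ∀ x ∈ K, ∃ k : ℕ, x ^ (p ^ k) ∈ Subgroup.centralizer (B : Set G)) : K ≤ stab p B := by
  have hn : (K.map (QuotientGroup.mk' (Subgroup.centralizer (B : Set G)))).Normal :=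
    Subgroup.Normal.map hK _ (QuotientGroup.mk'_surjective _)
  have hpg : IsPGroup p (K.map (QuotientGroup.mk' (Subgroup.centralizer (B : Set G)))) := by
    rintro ⟨_, x, hx, rfl⟩
    obtain ⟨k, hk⟩ := h x hx
    refine ⟨k, Subtype.ext ?_⟩
    show (QuotientGroup.mk' (Subgroup.centralizer (B : Set G)) x) ^ (p ^ k) = 1
    rw [← map_pow, QuotientGroup.mk'_apply, QuotientGroup.eq_one_iff]
    exact hk
  intro x hx
  exact Helper1.le_pCore hn hpg ⟨x, hx, rfl⟩

omit [Finite G] in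
theorem exists_pow_mem_centralizer_of_mem_stab (V : Subgroup G) [V.Normal] {x : G}
    (hx : x ∈ stab p V) : ∃ k : ℕ, x ^ (p ^ k) ∈ Subgroup.centralizer (V : Set G) := by
  have hx' : QuotientGroup.mk' (Subgroup.centralizer (V : Set G)) x ∈
      Cfsg.pCore p (G ⧸ Subgroup.centralizer (V : Set G)) := hx
  obtain ⟨k, hk⟩ := (Helper1.pCore_isPGroup p) ⟨_, hx'⟩
  refine ⟨k, ?_⟩
  have h1 := congrArg Subtype.val hk
  have h2 : (QuotientGroup.mk' (Subgroup.centralizer (V : Set G)) x) ^ (p ^ k) = 1 := h1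
  rw [← map_pow, QuotientGroup.mk'_apply, QuotientGroup.eq_one_iff] at h2
  exact h2

omit [Finite G] in
theorem stab_le_stab (T B : Subgroup G) [T.Normal] [B.Normal]
    (h : Subgroup.centralizer (T : Set G) ≤ stab p B) : stab p T ≤ stab p B := by
  apply le_stab_of_pow B (stab p T)
  intro x hx
  obtain ⟨k, hk⟩ := exists_pow_mem_centralizer_of_mem_stab T hx
  obtain ⟨j, hj⟩ := exists_pow_mem_centralizer_of_mem_stab B (h hk)
  refine ⟨k + j, ?_⟩
  rw [pow_add, pow_mul]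
  exact hj

end frattini

section coprime

variable {p : ℕ} [hp : Fact p.Prime]

/-- A `p'`-element `α` normalizing a `p`-group `B` of class at most two with `[B, B]` of
exponent `p` (`p` odd) and centralizing the elements of order dividing `p` centralizes `B`. -/
theorem centralizes_of_coprime (hp2 : p ≠ 2) {B : Subgroup G} (hBp : IsPGroup p B)
    (hcl2 : ∀ x ∈ B, ∀ y ∈ B, ∀ w ∈ B, (x * y * x⁻¹ * y⁻¹) * w = w * (x * y * x⁻¹ * y⁻¹))
    (hexp : ∀ x ∈ B, ∀ y ∈ B, (x * y * x⁻¹ * y⁻¹) ^ p = 1)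
    {α : G} (hαB : ∀ b ∈ B, α * b * α⁻¹ ∈ B) {m : ℕ} (hm : α ^ m = 1) (hcop : m.Coprime p)
    (hT : ∀ t ∈ B, t ^ p = 1 → α * t * α⁻¹ = t) : ∀ b ∈ B, α * b * α⁻¹ = b := by
  have hpp : p.Prime := hp.out
  have hchoose : p ∣ p.choose 2 := by
    apply hpp.dvd_choose_self (by norm_num)
    have := hpp.two_le
    omega
  suffices H : ∀ i : ℕ, ∀ b ∈ B, b ^ (p ^ i) = 1 → α * b * α⁻¹ = b by
    intro b hb
    obtain ⟨k, hk⟩ := hBp ⟨b, hb⟩
    exact H k b hb (by simpa using congrArg Subtype.val hk)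
  intro i
  induction i with
  | zero =>
    intro b _ h
    rw [pow_zero, pow_one] at h
    rw [h]; group
  | succ i ih =>
    intro b hb h
    have h1 : (b ^ p) ^ (p ^ i) = 1 := by rw [← pow_mul, ← pow_succ']; exact h
    have h2 := ih (b ^ p) (pow_mem hb p) h1
    obtain ⟨b', hb'def⟩ : ∃ b', b' = α * b * α⁻¹ := ⟨_, rfl⟩
    have hb' : b' ∈ B := hb'def ▸ hαB b hb
    have hb'p : b' ^ p = b ^ p := by rw [hb'def, conj_pow, h2]
    have hbi : b⁻¹ ∈ B := inv_mem hb
    obtain ⟨z, hzdef⟩ : ∃ z, z = b' * b⁻¹ * b'⁻¹ * b⁻¹⁻¹ := ⟨_, rfl⟩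
    have hz : b' * b⁻¹ = z * b⁻¹ * b' := by rw [hzdef]; group
    have hzx : Commute z b⁻¹ := by rw [hzdef]; exact hcl2 b' hb' b⁻¹ hbi b⁻¹ hbi
    have hzy : Commute z b' := by rw [hzdef]; exact hcl2 b' hb' b⁻¹ hbi b' hb'
    have hzp : z ^ p = 1 := by rw [hzdef]; exact hexp b' hb' b⁻¹ hbi
    have hzc : z ^ (p.choose 2) = 1 := by
      obtain ⟨c, hc⟩ := hchoose
      rw [hc, pow_mul, hzp, one_pow]
    have htp : (b⁻¹ * b') ^ p = 1 := by
      rw [mul_pow_of_class_two hz hzx hzy p, hzc, one_mul, hb'p, inv_pow, inv_mul_cancel]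
    have htB : b⁻¹ * b' ∈ B := mul_mem hbi hb'
    have htα := hT _ htB htp
    have hpow : ∀ n : ℕ, α ^ n * b * (α ^ n)⁻¹ = b * (b⁻¹ * b') ^ n := by
      intro n
      induction n with
      | zero => simp
      | succ n ihn =>
        have e1 : α ^ (n + 1) * b * (α ^ (n + 1))⁻¹ = α * (α ^ n * b * (α ^ n)⁻¹) * α⁻¹ := by
          rw [pow_succ']; group
        have e2 : α * (b * (b⁻¹ * b') ^ n) * α⁻¹ =
            (α * b * α⁻¹) * (α * (b⁻¹ * b') * α⁻¹) ^ n := by
          rw [conj_pow]; group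
        rw [e1, ihn, e2, htα, ← hb'def, pow_succ', ← mul_assoc b, ← mul_assoc b, mul_inv_cancel,
          one_mul]
    have h3 := hpow m
    rw [hm] at h3
    have h4 : (b⁻¹ * b') ^ m = 1 := by
      have : (1 : G) * b * 1⁻¹ = b := by group
      rw [this] at h3
      exact (mul_eq_left (a := b)).mp h3.symm
    have h5 : orderOf (b⁻¹ * b') ∣ Nat.gcd m p :=
      Nat.dvd_gcd (orderOf_dvd_of_pow_eq_one h4) (orderOf_dvd_of_pow_eq_one htp)
    rw [hcop.gcd_eq_one, Nat.dvd_one, orderOf_eq_one_iff] at h5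
    rw [← hb'def]
    exact (inv_mul_eq_one.mp h5).symm

variable [Finite G]

/-- If `T` contains all elements of order dividing `p` of `B` (class at most two, `[B, B]` of
exponent `p`), then `C_G(T) ≤ stab p B`. -/
theorem centralizer_le_stab_of_omega (hp2 : p ≠ 2) (B : Subgroup G) [hBn : B.Normal]
    (hBp : IsPGroup p B)
    (hcl2 : ∀ x ∈ B, ∀ y ∈ B, ∀ w ∈ B, (x * y * x⁻¹ * y⁻¹) * w = w * (x * y * x⁻¹ * y⁻¹))
    (hexp : ∀ x ∈ B, ∀ y ∈ B, (x * y * x⁻¹ * y⁻¹) ^ p = 1)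
    (T : Subgroup G) [hTn : T.Normal] (hT : ∀ t ∈ B, t ^ p = 1 → t ∈ T) :
    Subgroup.centralizer (T : Set G) ≤ stab p B := by
  have hpp : p.Prime := hp.out
  apply le_stab_of_pow B (Subgroup.centralizer (T : Set G))
  intro c hc
  obtain ⟨k, m, hm, hkm⟩ :=
    Nat.exists_eq_pow_mul_and_not_dvd (orderOf_pos c).ne' p hpp.ne_one
  refine ⟨k, ?_⟩
  have hα : c ^ (p ^ k) ∈ Subgroup.centralizer (T : Set G) := pow_mem hc _
  have hαm : (c ^ (p ^ k)) ^ m = 1 := by rw [← pow_mul, ← hkm, pow_orderOf_eq_one]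
  have hcop : m.Coprime p := ((Nat.Prime.coprime_iff_not_dvd hpp).mpr hm).symm
  have h1 := centralizes_of_coprime hp2 hBp hcl2 hexp (α := c ^ (p ^ k))
    (fun b hb => hBn.conj_mem b hb _) hαm hcop ?_
  · rw [Subgroup.mem_centralizer_iff]
    intro b hb
    have := h1 b hb
    calc b * c ^ (p ^ k) = (c ^ (p ^ k) * b * (c ^ (p ^ k))⁻¹) * c ^ (p ^ k) := by rw [this]
      _ = c ^ (p ^ k) * b := by group
  · intro t htB htp
    have := Subgroup.mem_centralizer_iff.mp hα t (hT t htB htp)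
    rw [← this]; group

end coprime

end Cfsg.Agent.Helper5.ZJE
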