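import Mathlib
import Cfsg.Agent.Helper5.ZJE.EA
import Cfsg.Agent.Helper5.ZJE.Stab
import Cfsg.Agent.Helper4.FrattiniQuotient
import Cfsg.Agent.Helper5.ZJClosed

/-!
Helper lemmas (helper5): Glauberman's ZJ-theorem for `Z(J_e(P))` itself (`J_e` generated by the
elementary abelian subgroups of largest order), not only for `Ω₁(Z(J_e(P)))`.

The proof shows by induction on `|B|` that `Z(J(P)) ∩ B` is normal in `G` for every normal
`p`-subgroup `B`.  Compared with the classical argument one needs in addition that `[B, B]` is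
elementary abelian (a Frattini argument), and the replacement theorem is applied to `Ω₁(B)`.
-/

set_option autoImplicit false

namespace Cfsg.Agent.Helper5.ZJE

open Cfsg.Agent.Lead.Alp Cfsg.Agent.Lead.GR Cfsg.Agent.Lead.ZJ

variable {G : Type*} [Group G]

/-- The elements of order dividing `q` of a commutative subgroup. -/
def omegaSub (K : Subgroup G) (hK : ∀ x ∈ K, ∀ y ∈ K, x * y = y * x) (q : ℕ) : Subgroup G where
  carrier := {x | x ∈ K ∧ x ^ q = 1}
  mul_mem' := by
    rintro x y ⟨hx, hxq⟩ ⟨hy, hyq⟩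
    refine ⟨mul_mem hx hy, ?_⟩
    have hc : Commute x y := hK x hx y hy
    rw [hc.mul_pow, hxq, hyq, one_mul]
  one_mem' := ⟨one_mem _, one_pow _⟩
  inv_mem' := by
    rintro x ⟨hx, hxq⟩
    exact ⟨inv_mem hx, by rw [inv_pow, hxq, inv_one]⟩

theorem mem_omegaSub {K : Subgroup G} {hK : ∀ x ∈ K, ∀ y ∈ K, x * y = y * x} {q : ℕ} {x : G} :
    x ∈ omegaSub K hK q ↔ x ∈ K ∧ x ^ q = 1 := Iff.rfl

instance omegaSub_normal (K : Subgroup G) [hKn : K.Normal]
    (hK : ∀ x ∈ K, ∀ y ∈ K, x * y = y * x) (q : ℕ) : (omegaSub K hK q).Normal := by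
  refine ⟨fun x hx g => ?_⟩
  obtain ⟨hxK, hxq⟩ := hx
  refine ⟨hKn.conj_mem x hxK g, ?_⟩
  rw [conj_pow, hxq]; group

variable [Finite G] {p : ℕ} [Fact p.Prime]

/-- A proper normal subgroup of the nontrivial normal `p`-subgroup `B` containing all `p`-th
powers (the Frattini subgroup). -/
theorem exists_frattini_like (B : Subgroup G) [hBn : B.Normal] (hBp : IsPGroup p B)
    (hB : B ≠ ⊥) : ∃ N : Subgroup G, N.Normal ∧ N < B ∧ ∀ x ∈ B, x ^ p ∈ N := by
  refine ⟨(frattini ↥B).map B.subtype, inferInstance, ?_, ?_⟩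
  · refine lt_of_le_of_ne (Subgroup.map_subtype_le _) ?_
    intro h
    have h1 : frattini ↥B = ⊤ := by
      apply Subgroup.map_injective B.subtype_injective
      rw [h, ← MonoidHom.range_eq_map, Subgroup.range_subtype]
    have h2 : (⊥ : Subgroup ↥B) = ⊤ := frattini_nongenerating (by rw [h1, sup_top_eq])
    apply hB
    rw [eq_bot_iff]
    intro x hx
    have : (⟨x, hx⟩ : ↥B) ∈ (⊥ : Subgroup ↥B) := by rw [h2]; exact Subgroup.mem_top _
    rw [Subgroup.mem_bot] at this
    rw [Subgroup.mem_bot]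
    exact congrArg Subtype.val this
  · intro x hx
    exact ⟨(⟨x, hx⟩ : ↥B) ^ p, Helper4.pgroup_pow_mem_frattini hBp ⟨x, hx⟩, rfl⟩

/-- The core of the ZJ-theorem for `Z(J(D))`, `D` strongly closed in the Sylow subgroup `P`:
`Z(J(D)) ∩ B` is normal in `G` for every normal `p`-subgroup `B`.  The class `𝔤` must satisfy:
an element of order dividing `p` centralizing a member of largest order lies in it. -/
theorem zOf_inf_normal' (𝔤 : Good G) (hp2 : p ≠ 2) (P : Sylow p G) (D : Subgroup G)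
    (hD : Cfsg.IsStronglyClosed D (P : Subgroup G))
    (hmax : ∀ A ∈ 𝔤.fam D, ∀ t ∈ D, t ^ p = 1 → (∀ a ∈ A, a * t = t * a) → t ∈ A)
    (hst : ∀ (V : Subgroup G) [V.Normal], IsPGroup p V → Cfsg.IsPStableOn p V) :
    ∀ B : Subgroup G, B.Normal → IsPGroup p B → (zOf 𝔤 D ⊓ B).Normal := by
  have hPD : (P : Subgroup G) ≤ Subgroup.normalizer (D : Set G) :=
    ZJC.le_normalizer_of_stronglyClosed hD
  have hodd : Odd p := (Fact.out : p.Prime).eq_two_or_odd'.resolve_left hp2
  suffices H : ∀ n : ℕ, ∀ B : Subgroup G, B.Normal → IsPGroup p B → Nat.card B = n →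
      (zOf 𝔤 D ⊓ B).Normal from fun B hBn hBp => H _ B hBn hBp rfl
  intro n
  induction n using Nat.strong_induction_on with
  | _ n ih =>
  intro B hBn hBp hcard
  haveI := hBn
  obtain ⟨Z, hZ⟩ : ∃ Z, Z = zOf 𝔤 D := ⟨_, rfl⟩
  rw [← hZ]
  have hBP : B ≤ P := le_sylow_of_normal P hBn hBp
  by_cases hB1 : Subgroup.normalClosure ((Z ⊓ B : Subgroup G) : Set G) = B
  swap
  · have hB₁le : Subgroup.normalClosure ((Z ⊓ B : Subgroup G) : Set G) ≤ B :=
      Subgroup.normalClosure_le_normal inf_le_right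
    have hlt : Subgroup.normalClosure ((Z ⊓ B : Subgroup G) : Set G) < B := lt_of_le_of_ne hB₁le hB1
    have := ih _ (hcard ▸ Cfsg.Agent.Lead.card_lt_of_lt hlt) _ Subgroup.normalClosure_normal
      (hBp.to_le hB₁le) rfl
    have heq : Z ⊓ Subgroup.normalClosure ((Z ⊓ B : Subgroup G) : Set G) = Z ⊓ B :=
      le_antisymm (inf_le_inf_left _ hB₁le) (le_inf inf_le_left Subgroup.le_normalClosure)
    rw [← hZ, heq] at this
    exact this
  · by_cases hBbot : B = ⊥
    · subst hBbot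
      rw [inf_bot_eq]
      infer_instance
    · have hBB_lt : ⁅B, B⁆ < B :=
        Helper1.commutator_lt_of_isPGroup hBp hBp Subgroup.le_normalizer hBbot
      have hYn : (Z ⊓ ⁅B, B⁆).Normal := by
        rw [hZ]
        exact ih _ (hcard ▸ Cfsg.Agent.Lead.card_lt_of_lt hBB_lt) ⁅B, B⁆ inferInstance
          (hBp.to_le hBB_lt.le) rfl
      have hPZ : (P : Subgroup G) ≤ Subgroup.normalizer (Z : Set G) := by
        rw [hZ]
        exact hPD.trans (normalizer_le_normalizer_zOf _)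
      have hZcomm : ∀ x ∈ Z, ∀ y ∈ Z, x * y = y * x := hZ ▸ zOf_comm _
      have hcomm_mem : ∀ x ∈ B, ∀ y ∈ B, x * y * x⁻¹ * y⁻¹ ∈ ⁅B, B⁆ := by
        intro x hx y hy
        have := Subgroup.commutator_mem_commutator hx hy
        rwa [commutatorElement_def] at this
      have h1 : ∀ z ∈ Z ⊓ B, ∀ y ∈ B, z * y * z⁻¹ * y⁻¹ ∈ Z ⊓ ⁅B, B⁆ := by
        intro z hz y hy
        obtain ⟨hzZ, hzB⟩ := Subgroup.mem_inf.mp hz
        refine Subgroup.mem_inf.mpr ⟨?_, hcomm_mem z hzB y hy⟩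
        have h2 : y * z⁻¹ * y⁻¹ ∈ Z :=
          (Subgroup.mem_normalizer_iff.mp (hPZ (hBP hy)) z⁻¹).mp (inv_mem hzZ)
        have e : z * y * z⁻¹ * y⁻¹ = z * (y * z⁻¹ * y⁻¹) := by group
        rw [e]; exact mul_mem hzZ h2
      have h2 := commutator_normalClosure_mem h1
      rw [hB1] at h2
      have hBBZ : ⁅B, B⁆ ≤ Z := by
        refine le_trans ?_ (inf_le_left : Z ⊓ ⁅B, B⁆ ≤ Z)
        rw [Subgroup.commutator_le]
        intro x hx y hy
        rw [commutatorElement_def]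
        exact h2 x hx y hy
      -- a normal subgroup containing `Z ⊓ B` contains `B`
      have hgen : ∀ K : Subgroup G, K.Normal → Z ⊓ B ≤ K → B ≤ K := by
        intro K hK h
        rw [← hB1]
        exact Subgroup.normalClosure_le_normal h
      -- `B ≤ D`
      have hDBn : (D ⊓ B).Normal :=
        ⟨fun x hx g => ⟨hD.2 x hx.1 g (hBP (hBn.conj_mem x hx.2 g)), hBn.conj_mem x hx.2 g⟩⟩
      have hBD : B ≤ D :=
        (hgen _ hDBn (le_inf (inf_le_left.trans (hZ ▸ zOf_le D)) inf_le_right)).trans inf_le_left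
      -- `B` has class at most two
      have hBBc : B ≤ Subgroup.centralizer ((⁅B, B⁆ : Subgroup G) : Set G) := by
        apply hgen _ inferInstance
        intro z hz
        rw [Subgroup.mem_centralizer_iff]
        intro c hc
        exact hZcomm c (hBBZ hc) z hz.1
      have hcl2 : ∀ x ∈ B, ∀ y ∈ B, ∀ w ∈ B,
          (x * y * x⁻¹ * y⁻¹) * w = w * (x * y * x⁻¹ * y⁻¹) := by
        intro x hx y hy w hw
        exact Subgroup.mem_centralizer_iff.mp (hBBc hw) _ (hcomm_mem x hx y hy)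
      -- the Frattini trick: `[B, B]` has exponent `p`
      obtain ⟨N, hNn, hN_lt, hNpow⟩ := exists_frattini_like B hBp hBbot
      haveI := hNn
      have hZN : (Z ⊓ N).Normal := by
        rw [hZ]
        exact ih _ (hcard ▸ Cfsg.Agent.Lead.card_lt_of_lt hN_lt) N hNn (hBp.to_le hN_lt.le) rfl
      have hZNc : B ≤ Subgroup.centralizer ((Z ⊓ N : Subgroup G) : Set G) := by
        apply hgen _ inferInstance
        intro z hz
        rw [Subgroup.mem_centralizer_iff]
        intro c hc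
        exact hZcomm c hc.1 z hz.1
      have hexp0 : ∀ z ∈ Z ⊓ B, ∀ y ∈ B, (z * y * z⁻¹ * y⁻¹) ^ p = 1 := by
        intro z hz y hy
        obtain ⟨c, hcdef⟩ : ∃ c, c = z * y * z⁻¹ * y⁻¹ := ⟨_, rfl⟩
        rw [← hcdef]
        have hzy : z * y = c * y * z := by rw [hcdef]; group
        have hcz : Commute c z := by rw [hcdef]; exact hcl2 z hz.2 y hy z hz.2
        have h3 := pow_mul_comm_of_central hzy hcz p
        have hzp : z ^ p ∈ Z ⊓ N := ⟨pow_mem hz.1 p, hNpow z hz.2⟩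
        have h4 : z ^ p * y = y * z ^ p := Subgroup.mem_centralizer_iff.mp (hZNc hy) _ hzp
        rw [h4, mul_assoc] at h3
        exact mul_eq_right.mp h3.symm
      have hBBcomm : ∀ x ∈ ⁅B, B⁆, ∀ y ∈ ⁅B, B⁆, x * y = y * x :=
        fun x hx y hy => hZcomm x (hBBZ hx) y (hBBZ hy)
      have hexp1 : ∀ z ∈ Z ⊓ B, ∀ y ∈ B,
          z * y * z⁻¹ * y⁻¹ ∈ omegaSub ⁅B, B⁆ hBBcomm p :=
        fun z hz y hy => ⟨hcomm_mem z hz.2 y hy, hexp0 z hz y hy⟩
      have hexp2 := commutator_normalClosure_mem hexp1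
      rw [hB1] at hexp2
      have hexp : ∀ x ∈ B, ∀ y ∈ B, (x * y * x⁻¹ * y⁻¹) ^ p = 1 :=
        fun x hx y hy => (hexp2 x hx y hy).2
      have hBBexp : ∀ c ∈ ⁅B, B⁆, c ^ p = 1 := by
        have hle : ⁅B, B⁆ ≤ omegaSub ⁅B, B⁆ hBBcomm p := by
          rw [Subgroup.commutator_le]
          intro x hx y hy
          rw [commutatorElement_def]
          exact hexp2 x hx y hy
        intro c hc
        exact (hle hc).2
      -- `[B, B]` lies in every member of the family
      have hBBA : ∀ A ∈ 𝔤.fam D, ⁅B, B⁆ ≤ A := by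
        intro A hA c hc
        exact hmax A hA c (hBD (hBB_lt.le hc)) (hBBexp c hc)
          (fun a ha => comm_of_mem_zOf (hZ ▸ hBBZ hc) hA ha)
      -- a member normalized by `B`
      have hC : ReplClass p (P : Subgroup G) B (𝔤.fam D) := ZJC.replClass' 𝔤 hp2 hBP hD.1 hPD
      have hPB : (P : Subgroup G) ≤ Subgroup.normalizer (B : Set G) := by
        rw [Subgroup.normalizer_eq_top (H := B)]; exact le_top
      have hB2 : p = 2 → ∀ x ∈ B, ∀ y ∈ B, x * y = y * x := fun h => absurd h hp2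
      obtain ⟨A₀, hA₀⟩ := 𝔤.fam_nonempty D
      obtain ⟨A, hA, _, hBNA, _, _⟩ :=
        hC.exists_normalized P.2 hBP hPB hB2 A₀ hA₀ (hBBA A₀ hA₀)
      have hAL : A ≤ stab p B := le_stab_of_normalized B (hst B hBp) (𝔤.comm A hA.2.1) hBNA
      have hfam₁ : 𝔤.fam (D ⊓ stab p B) ⊆ 𝔤.fam D :=
        Good.fam_subset_of_mem inf_le_left hA (le_inf hA.1 hAL)
      obtain ⟨CJ, hCJ⟩ : ∃ CJ, CJ =
          Subgroup.centralizer (jOf 𝔤 (D ⊓ stab p B) : Set G) := ⟨_, rfl⟩
      have hNX : Subgroup.normalizer (((P : Subgroup G) ⊓ stab p B : Subgroup G) : Set G) ≤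
          Subgroup.normalizer (CJ : Set G) := by
        rw [hCJ]
        exact (ZJC.normalizer_inf_le_of_stronglyClosed hD).trans
          ((normalizer_le_normalizer_jOf _).trans (normalizer_le_normalizer_centralizer _))
      have hXBn : (CJ ⊓ B).Normal := inf_normal_of_normalizer_le P B CJ hNX
      have hZX : Z ≤ CJ := by
        rw [hZ, hCJ]
        intro z hz
        apply mem_centralizer_jOf
        intro A' hA' a ha
        exact comm_of_mem_zOf hz (hfam₁ hA') ha
      have hBX : B ≤ CJ :=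
        (hgen _ hXBn (le_inf (inf_le_left.trans hZX) inf_le_right)).trans inf_le_left
      have hBcent : ∀ A' ∈ 𝔤.fam D, A' ≤ stab p B →
          ∀ b ∈ B, ∀ a ∈ A', a * b = b * a := by
        intro A' hA' hle b hb a ha
        have h4 : A' ∈ 𝔤.fam (D ⊓ stab p B) :=
          Good.mem_fam_of_le inf_le_left hA' (le_inf hA'.1 hle)
        have h5 := hBX hb
        rw [hCJ] at h5
        exact Subgroup.mem_centralizer_iff.mp h5 a (le_jOf h4 ha)
      -- `T = Ω₁(B)`
      obtain ⟨T, hTmem⟩ : ∃ T : Subgroup G, ∀ x, x ∈ T ↔ x ∈ B ∧ x ^ p = 1 := by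
        refine ⟨{ carrier := {x | x ∈ B ∧ x ^ p = 1}
                  mul_mem' := ?_
                  one_mem' := ⟨one_mem _, one_pow _⟩
                  inv_mem' := ?_ }, fun x => Iff.rfl⟩
        · rintro x y ⟨hx, hxp⟩ ⟨hy, hyp⟩
          refine ⟨mul_mem hx hy, ?_⟩
          exact pow_eq_one_of_class_two hodd hxp hyp (hcl2 y hy x hx x hx) (hcl2 y hy x hx y hy)
        · rintro x ⟨hx, hxp⟩
          exact ⟨inv_mem hx, by rw [inv_pow, hxp, inv_one]⟩
      have hTB : T ≤ B := fun x hx => ((hTmem x).mp hx).1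
      have hTn : T.Normal := by
        refine ⟨fun x hx g => (hTmem _).mpr ⟨hBn.conj_mem x ((hTmem x).mp hx).1 g, ?_⟩⟩
        rw [conj_pow, ((hTmem x).mp hx).2]; group
      haveI := hTn
      have hTp : IsPGroup p T := hBp.to_le hTB
      have hTP : T ≤ P := hTB.trans hBP
      have hCT : Subgroup.centralizer (T : Set G) ≤ stab p B :=
        centralizer_le_stab_of_omega hp2 B hBp hcl2 hexp T
          (fun t htB htp => (hTmem t).mpr ⟨htB, htp⟩)
      have hstT : stab p T ≤ stab p B := stab_le_stab T B hCT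
      have hCT' : ReplClass p (P : Subgroup G) T (𝔤.fam D) := ZJC.replClass' 𝔤 hp2 hTP hD.1 hPD
      have hPT : (P : Subgroup G) ≤ Subgroup.normalizer (T : Set G) := by
        rw [Subgroup.normalizer_eq_top (H := T)]; exact le_top
      have hT2 : p = 2 → ∀ x ∈ T, ∀ y ∈ T, x * y = y * x := fun h => absurd h hp2
      have hallT : ∀ A' ∈ 𝔤.fam D, ⁅T, T⁆ ≤ A' →
          T ≤ Subgroup.normalizer (A' : Set G) → T ≤ A' := by
        intro A' hA' _ hN
        have h3 : A' ≤ stab p B :=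
          (le_stab_of_normalized T (hst T hTp) (𝔤.comm A' hA'.2.1) hN).trans hstT
        intro t ht
        obtain ⟨htB, htp⟩ := (hTmem t).mp ht
        exact hmax A' hA' t (hBD htB) htp (fun a ha => hBcent A' hA' h3 t htB a ha)
      have hTall := hCT'.le_of_forall_normalized P.2 hTP hPT hT2 hallT
      have hTA : ∀ A' ∈ 𝔤.fam D, T ≤ A' := fun A' hA' =>
        hTall A' hA' ((Subgroup.commutator_mono hTB hTB).trans (hBBA A' hA'))
      have hAll : ∀ A' ∈ 𝔤.fam D, A' ≤ stab p B := by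
        intro A' hA'
        refine le_trans ?_ hCT
        intro a ha
        rw [Subgroup.mem_centralizer_iff]
        intro t ht
        exact 𝔤.comm A' hA'.2.1 t (hTA A' hA' ht) a ha
      have hfamEq : 𝔤.fam (D ⊓ stab p B) = 𝔤.fam D := by
        apply Set.Subset.antisymm hfam₁
        intro A' hA'
        exact Good.mem_fam_of_le inf_le_left hA' (le_inf hA'.1 (hAll A' hA'))
      have hZeq : zOf 𝔤 (D ⊓ stab p B) = Z := by
        rw [hZ]; exact zOf_eq_of_fam_eq hfamEq
      have hNZ : Subgroup.normalizer (((P : Subgroup G) ⊓ stab p B : Subgroup G) : Set G) ≤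
          Subgroup.normalizer (Z : Set G) := by
        rw [← hZeq]
        exact (ZJC.normalizer_inf_le_of_stronglyClosed hD).trans (normalizer_le_normalizer_zOf _)
      exact inf_normal_of_normalizer_le P B Z hNZ

theorem zOf_le_pCore' (𝔤 : Good G) (P : Sylow p G) (D : Subgroup G)
    (hD : Cfsg.IsStronglyClosed D (P : Subgroup G))
    (hc : Subgroup.centralizer (Cfsg.pCore p G : Set G) ≤ Cfsg.pCore p G)
    (hstQ : Cfsg.IsPStableOn p (Cfsg.pCore p G)) :
    zOf 𝔤 D ≤ Cfsg.pCore p G := by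
  have hQp : IsPGroup p (Cfsg.pCore p G) := Helper1.pCore_isPGroup p
  have hQP : Cfsg.pCore p G ≤ P := Helper1.pCore_le_sylow P
  have hQN : Cfsg.pCore p G ≤
      Subgroup.normalizer ((zOf 𝔤 D : Subgroup G) : Set G) :=
    hQP.trans ((ZJC.le_normalizer_of_stronglyClosed hD).trans (normalizer_le_normalizer_zOf _))
  have h1 : zOf 𝔤 D ≤ stab p (Cfsg.pCore p G) :=
    le_stab_of_normalized _ hstQ (zOf_comm _) hQN
  refine h1.trans (Helper1.le_pCore inferInstance ?_)
  obtain ⟨k, hk⟩ := relIndex_centralizer_stab (p := p) (Cfsg.pCore p G)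
  obtain ⟨j, hj⟩ := IsPGroup.iff_card.mp (hQp.to_le hc)
  have := Helper1.relIndex_mul_card_of_le (centralizer_le_stab (p := p) (Cfsg.pCore p G))
  rw [hk, hj, ← pow_add] at this
  exact IsPGroup.of_card this.symm

theorem zOf_normal' (𝔤 : Good G) (hp2 : p ≠ 2) (P : Sylow p G) (D : Subgroup G)
    (hD : Cfsg.IsStronglyClosed D (P : Subgroup G))
    (hmax : ∀ A ∈ 𝔤.fam D, ∀ t ∈ D, t ^ p = 1 → (∀ a ∈ A, a * t = t * a) → t ∈ A)
    (hc : Subgroup.centralizer (Cfsg.pCore p G : Set G) ≤ Cfsg.pCore p G)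
    (hst : ∀ (V : Subgroup G) [V.Normal], IsPGroup p V → Cfsg.IsPStableOn p V) :
    (zOf 𝔤 D).Normal := by
  have hQp : IsPGroup p (Cfsg.pCore p G) := Helper1.pCore_isPGroup p
  have h1 := zOf_inf_normal' 𝔤 hp2 P D hD hmax hst (Cfsg.pCore p G) inferInstance hQp
  have h2 : zOf 𝔤 D ≤ Cfsg.pCore p G := zOf_le_pCore' 𝔤 P D hD hc (hst _ hQp)
  rwa [inf_eq_left.mpr h2] at h1

/-- **Glauberman's ZJ-theorem** for `Z(J_e(D))`, `D` strongly closed in a Sylow `p`-subgroup. -/
theorem centerThompsonOf_normal' (hp2 : p ≠ 2) (P : Sylow p G) (D : Subgroup G)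
    (hD : Cfsg.IsStronglyClosed D (P : Subgroup G))
    (hc : Subgroup.centralizer (Cfsg.pCore p G : Set G) ≤ Cfsg.pCore p G)
    (hst : ∀ (V : Subgroup G) [V.Normal], IsPGroup p V → Cfsg.IsPStableOn p V) :
    (Cfsg.centerThompsonOf p D).Normal := by
  have hodd : Odd p := (Fact.out : p.Prime).eq_two_or_odd'.resolve_left hp2
  rw [← zOf_goodEA p hodd]
  exact zOf_normal' (goodEA p hodd G) hp2 P D hD
    (fun A hA t ht htp hcomm => mem_of_centralizes hodd hA ht htp hcomm) hc hst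

/-- **Glauberman's ZJ-theorem** for `Z(J_e(P))`. -/
theorem centerThompsonOf_normal (hp2 : p ≠ 2) (P : Sylow p G)
    (hc : Subgroup.centralizer (Cfsg.pCore p G : Set G) ≤ Cfsg.pCore p G)
    (hst : ∀ (V : Subgroup G) [V.Normal], IsPGroup p V → Cfsg.IsPStableOn p V) :
    (Cfsg.centerThompsonOf p (P : Subgroup G)).Normal :=
  centerThompsonOf_normal' hp2 P (P : Subgroup G) ⟨le_rfl, fun _ _ _ hg => hg⟩ hc hst

end Cfsg.Agent.Helper5.ZJE
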