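import Mathlib
import Cfsg.Agent.Helper5.ZJE.Main
import Cfsg.Agent.Helper1.ThompsonNPC

/-!
Helper lemmas (helper5): Glauberman's normal `p`-complement theorem for `Z(J_e(P))`
(elementary abelian version of the Thompson subgroup).
-/

set_option autoImplicit false

namespace Cfsg.Agent.Helper5.ZJE

open Cfsg.Agent.Helper1 Cfsg.Agent.Helper1.ThompsonRed

universe u

/-- The functor `R ↦ Z(J_e(R))`. -/
def zjeFunctor (p : ℕ) : CharFunctor.{u} where
  W := fun R _ => Cfsg.thompsonSubgroup p R ⊓
    Subgroup.centralizer (Cfsg.thompsonSubgroup p R : Set R)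
  map_equiv := by
    intro R R' _ _ e
    rw [Subgroup.map_inf _ _ _ e.injective, centralizer_map_equiv', thompsonSubgroup_map_equiv]

theorem zjeFunctor_of {G : Type u} [Group G] (p : ℕ) (P : Subgroup G) :
    (zjeFunctor p).of P = Cfsg.centerThompsonOf p P := by
  unfold CharFunctor.of zjeFunctor Cfsg.centerThompsonOf Cfsg.thompsonSubgroupOf
  exact Cfsg.Agent.Lead.ZJ.map_inf_centralizer P _

theorem zjeFunctor_ne_bot {p : ℕ} [hp : Fact p.Prime] (R : Type u) [Group R] [Finite R]
    (hR : IsPGroup p R) (hnt : Nontrivial R) : (zjeFunctor p).W R ≠ ⊥ := by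
  show Cfsg.thompsonSubgroup p R ⊓
    Subgroup.centralizer (Cfsg.thompsonSubgroup p R : Set R) ≠ ⊥
  haveI hchar : (Cfsg.thompsonSubgroup p R).Characteristic := by
    rw [Subgroup.characteristic_iff_map_eq]
    intro ϕ
    exact thompsonSubgroup_map_equiv p ϕ
  apply PStableStruct.inf_centralizer_ne_bot _ _ (hR.to_subgroup _) (hR.to_subgroup _)
  exact jFunctor_ne_bot R hR hnt

/-- Glauberman's normal `p`-complement theorem for `Z(J_e(P))`. -/
theorem glauberman_npc_e {p : ℕ} [hp : Fact p.Prime] (hp2 : p ≠ 2) (G : Type u) [Group G]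
    [Finite G] (P : Sylow p G)
    (hN : Cfsg.HasNormalPComplement p
      ↥(Subgroup.normalizer (Cfsg.centerThompsonOf p ((P : Subgroup G)) : Set G))) :
    Cfsg.HasNormalPComplement p G := by
  refine reduction (F₁ := zjeFunctor p) (F₂ := zjeFunctor p)
    (fun R _ _ => zjeFunctor_ne_bot R) (fun R _ _ => zjeFunctor_ne_bot R) ?_ G P ?_
  · intro G _ _ P hyp hS
    have hst : ∀ (V : Subgroup G) [V.Normal], IsPGroup p V → Cfsg.IsPStableOn p V :=
      fun V _ hV => hS.isPStableOn hp2 V hV
    haveI hnormal := centerThompsonOf_normal hp2 P hS.cent_le hst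
    have hnorm : Subgroup.normalizer (Cfsg.centerThompsonOf p ((P : Subgroup G)) : Set G) = ⊤ :=
      Subgroup.normalizer_eq_top _
    apply hS.not_nilp
    have h1 := hyp.1
    rw [zjeFunctor_of, hnorm] at h1
    exact hasNormalPComplement_of_mulEquiv Subgroup.topEquiv h1
  · rw [Hyp, zjeFunctor_of]
    refine ⟨hN, ?_⟩
    have hle : Subgroup.centralizer (Cfsg.centerThompsonOf p ((P : Subgroup G)) : Set G) ≤
        Subgroup.normalizer (Cfsg.centerThompsonOf p ((P : Subgroup G)) : Set G) :=
      Subgroup.centralizer_le_normalizer _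
    exact hasNormalPComplement_of_le hle hN

end Cfsg.Agent.Helper5.ZJE
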