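import Mathlib
import Cfsg.Agent.Helper5.ZJE.NPC
import Cfsg.Agent.Helper1.MFh
import Cfsg.Agent.Helper1.NGc

/-!
Helper lemmas (helper5): `N_G(Z(J_e(D)))` controls strong fusion in `Qd(p)`-free groups
(`D` strongly closed in a Sylow `p`-subgroup, `p` odd).
-/

set_option autoImplicit false

namespace Cfsg.Agent.Helper5.ZJE

open Cfsg Cfsg.Agent.Helper1 Cfsg.Agent.Helper1.FT Cfsg.Agent.Helper1.ThompsonRed
  Cfsg.Agent.Helper1.MF

universe u

variable {p : ℕ} [hp : Fact p.Prime]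

/-- the functor `Q ↦ Z(J_e(Q))` as a bare function -/
def zjeW (p : ℕ) : ∀ (Q : Type u) [Group Q], Subgroup Q := fun Q _ => (zjeFunctor p).W Q

theorem zjeW_isCharPFunctor : Cfsg.IsCharPFunctor.{u} p (zjeW p) :=
  ⟨fun Q _ _ hQ hnt => zjeFunctor_ne_bot Q hQ hnt,
    fun _ _ _ _ _ _ φ => (zjeFunctor p).map_equiv φ⟩

omit hp in
theorem inducedFunctor_zjeW {X : Type u} [Group X] (T : Subgroup X) :
    Cfsg.inducedFunctor (zjeW p) T = Cfsg.centerThompsonOf p T :=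
  zjeFunctor_of p T

theorem zje_controls_of_qd_free (hp2 : p ≠ 2) {G : Type u} [Group G] [Finite G]
    (hqd : ¬ Cfsg.Involves ↥(Cfsg.qd p) G) (P : Sylow p G) (D : Subgroup G)
    (hD : Cfsg.IsStronglyClosed D (P : Subgroup G)) :
    ∀ A : Set G, A ⊆ (P : Subgroup G) → Cfsg.ControlsStrongFusionOf
      (Subgroup.normalizer ((Cfsg.centerThompsonOf p D) : Set G)) (P : Subgroup G) A := by
  have h := controls_of_stronglyClosed (p := p) (zjeW p) zjeW_isCharPFunctor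
    (fun X _ => ¬ Cfsg.Involves ↥(Cfsg.qd p) X) qdfree_sub qdfree_quot ?_ hqd P D hD
  · rwa [inducedFunctor_zjeW] at h
  · intro X _ _ hfree hpc S D' hD'
    rw [inducedFunctor_zjeW]
    exact centerThompsonOf_normal' hp2 S D' hD' hpc
      (fun V _ hVp => QuadFree.isPStableOn_of_qd_free hp2 hfree V hVp)

/-- The `SL₂(p)`-free form, `D = P`. -/
theorem zje_controls_of_sl2_free (hp2 : p ≠ 2) {G : Type u} [Group G] [Finite G]
    (hfree : ¬ ∃ (H K : Subgroup G) (_ : (K.subgroupOf H).Normal),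
      Nonempty ((H ⧸ K.subgroupOf H) ≃* Matrix.SpecialLinearGroup (Fin 2) (ZMod p)))
    (P : Sylow p G) (A : Set G) (hA : A ⊆ (P : Set G)) (g : G)
    (hAg : (fun a => g⁻¹ * a * g) '' A ⊆ (P : Set G)) :
    ∃ n ∈ Subgroup.normalizer (Cfsg.centerThompsonOf p (P : Subgroup G) : Set G),
      ∀ a ∈ A, n⁻¹ * a * n = g⁻¹ * a * g := by
  have h1 : ¬ Cfsg.Involves ↥(Cfsg.qd p) ↥(⊤ : Subgroup G) := by
    apply NG.not_involves_qd_of_no_section
    rintro ⟨H, K, hK, -, hiso⟩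
    exact hfree ⟨H, K, hK, hiso⟩
  have hqd : ¬ Cfsg.Involves ↥(Cfsg.qd p) G := by
    intro h
    exact h1 (QuadFree.involves_of_injective (Subgroup.topEquiv (G := G)).symm.toMonoidHom
      (Subgroup.topEquiv (G := G)).symm.injective h)
  have h2 := zje_controls_of_qd_free hp2 hqd P (P : Subgroup G) ⟨le_rfl, fun _ _ _ hg => hg⟩ A hA
  have hAg' : (fun a => g⁻¹ * a * g⁻¹⁻¹) '' A ⊆ ((P : Subgroup G) : Set G) := by
    rw [inv_inv]; exact hAg
  obtain ⟨x, hx, hxa⟩ := h2.2 g⁻¹ hAg'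
  refine ⟨x⁻¹, Subgroup.inv_mem _ hx, fun a ha => ?_⟩
  have := hxa a ha
  rw [inv_inv] at this ⊢
  exact this.symm

end Cfsg.Agent.Helper5.ZJE
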