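import Mathlib
import Cfsg.Agent.Helper5.ZJE.NPC
import Cfsg.Agent.Helper1.OddQuadratic
import Cfsg.Agent.Helper1.Fitting2

/-!
Helper lemmas (helper5): in a solvable group of odd order, `Z(J_e(S)) O_{p'}(G)` is normal.
-/

set_option autoImplicit false

namespace Cfsg.Agent.Helper5.ZJE

open Cfsg.Agent.Helper1 Cfsg.Agent.Helper1.ThompsonRed

universe u

theorem centerThompsonOf_le {G : Type u} [Group G] (p : ℕ) (S : Subgroup G) :
    Cfsg.centerThompsonOf p S ≤ S := by
  unfold Cfsg.centerThompsonOf Cfsg.thompsonSubgroupOf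
  exact inf_le_left.trans (Subgroup.map_subtype_le _)

theorem zje_sup_pPrimeCore_normal {G : Type u} [Group G] [Finite G] [hsol : Group.IsSolvable G]
    (hodd : Odd (Nat.card G)) (p : ℕ) [hp : Fact p.Prime] (S : Sylow p G) :
    (Cfsg.centerThompsonOf p (S : Subgroup G) ⊔ Cfsg.pPrimeCore p G).Normal := by
  by_cases hp2 : p = 2
  · -- the Sylow `2`-subgroup is trivial
    have hS : (S : Subgroup G) = ⊥ := by
      obtain ⟨k, hk⟩ := IsPGroup.iff_card.1 S.2
      have hdvd : Nat.card (S : Subgroup G) ∣ Nat.card G := Subgroup.card_subgroup_dvd_card _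
      rw [hk, hp2] at hdvd
      have hk0 : k = 0 := by
        by_contra hk0
        have h2 : 2 ∣ Nat.card G := (dvd_pow_self 2 hk0).trans hdvd
        exact (Nat.not_even_iff_odd.mpr hodd) (even_iff_two_dvd.mpr h2)
      rw [hk0, pow_zero] at hk
      exact Subgroup.card_eq_one.mp hk
    have h1 : Cfsg.centerThompsonOf p (S : Subgroup G) = ⊥ := by
      rw [eq_bot_iff, ← hS]
      exact centerThompsonOf_le p _
    rw [h1, bot_sup_eq]
    infer_instance
  · have hKcop : (Nat.card (Cfsg.pPrimeCore p G)).Coprime p := card_pPrimeCore_coprime p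
    have hπs : Function.Surjective (QuotientGroup.mk' (Cfsg.pPrimeCore p G)) :=
      QuotientGroup.mk'_surjective _
    have hKb : Cfsg.pPrimeCore p (G ⧸ Cfsg.pPrimeCore p G) = ⊥ := pPrimeCore_quotient_pPrimeCore p
    have hsol' : Group.IsSolvable (G ⧸ Cfsg.pPrimeCore p G) := inferInstance
    have hodd' : Odd (Nat.card (G ⧸ Cfsg.pPrimeCore p G)) :=
      Odd.of_dvd_nat hodd (Subgroup.card_quotient_dvd_card _)
    have hcent : Subgroup.centralizer (Cfsg.pCore p (G ⧸ Cfsg.pPrimeCore p G) :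
        Set (G ⧸ Cfsg.pPrimeCore p G)) ≤ Cfsg.pCore p (G ⧸ Cfsg.pPrimeCore p G) :=
      centralizer_pCore_le p hKb
    have hst' : ∀ (V : Subgroup (G ⧸ Cfsg.pPrimeCore p G)) [V.Normal], IsPGroup p V →
        Cfsg.IsPStableOn p V :=
      fun V _ hV => OddGL2.isPStableOn_of_solvable_odd hp2 hsol' hodd' V hV
    have hnorm := centerThompsonOf_normal hp2 (S.mapSurjective hπs) hcent hst'
    rw [Sylow.coe_mapSurjective] at hnorm
    have hdisj : (S : Subgroup G) ⊓ (QuotientGroup.mk' (Cfsg.pPrimeCore p G)).ker = ⊥ := by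
      rw [QuotientGroup.ker_mk']
      apply inf_eq_bot_of_coprime_card
      obtain ⟨k, hk⟩ := IsPGroup.iff_card.1 S.2
      rw [hk]; exact (Nat.Coprime.pow_right k hKcop).symm
    have hmap : Cfsg.centerThompsonOf p
        ((S : Subgroup G).map (QuotientGroup.mk' (Cfsg.pPrimeCore p G))) =
        (Cfsg.centerThompsonOf p (S : Subgroup G)).map
          (QuotientGroup.mk' (Cfsg.pPrimeCore p G)) := by
      rw [← zjeFunctor_of, ← zjeFunctor_of]
      exact (zjeFunctor p).of_map _ _ hdisj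
    rw [hmap] at hnorm
    have h2 := hnorm.comap (QuotientGroup.mk' (Cfsg.pPrimeCore p G))
    rw [Subgroup.comap_map_eq, QuotientGroup.ker_mk'] at h2
    exact h2

end Cfsg.Agent.Helper5.ZJE
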